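import Cfsg.Agent.Omega.TwoFFour.SzNatC

/-!
# N1, THEOREM SZ (#19896): the modules `EE^x/F` of `Sz(q)`

`SzB H P` : finite `F₂ Sz(q)`-module `P` on which `Z = {u 0 b}` acts quadratically, `C_P(z) = C_P(Z) = B` for all
`z ≠ 1` in `Z`, and `B ∩ wB = 0`.

* `SzB.surj` : `B ∩ X = [X, z]` for submodules `X`; `SzB.dec` : `X = (B ∩ X) + w (B ∩ X)`;
* `SzB.jordan` : `C_B(t) = [B, t]` for `t ∈ T - Z`;
* `SzB.of_inj`, `SzB.of_surj` : submodules and quotients.
* `Nil`, `Per`, `fitting` : Fitting decomposition for an additive endomorphism.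
-/

set_option autoImplicit false
set_option linter.unusedSectionVars false

namespace Cfsg.Agent.Omega.NO1.SZ

open Cfsg.Agent.Omega.TwoFFour
open Cfsg.Agent.LieRecognition.SzMatrix

/-! ### Fitting -/

section fitting

variable {P : Type*} [AddCommGroup P]

/-- `O` is nilpotent on `y` -/
def Nil (O : P →+ P) (y : P) : Prop := ∃ n, O^[n] y = 0

/-- `y` is periodic for `O` -/
def Per (O : P →+ P) (y : P) : Prop := ∃ n, 0 < n ∧ O^[n] y = y

variable {O : P →+ P}

theorem iter_zero (n : ℕ) : O^[n] (0 : P) = 0 := by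
  induction n with
  | zero => rfl
  | succ n ih => rw [Function.iterate_succ_apply', ih, map_zero]

theorem iter_add (n : ℕ) (x y : P) : O^[n] (x + y) = O^[n] x + O^[n] y := by
  induction n with
  | zero => rfl
  | succ n ih => rw [Function.iterate_succ_apply', ih, map_add, Function.iterate_succ_apply', Function.iterate_succ_apply']

theorem iter_mem {X : AddSubgroup P} (hX : ∀ x ∈ X, O x ∈ X) {x : P} (hx : x ∈ X) (n : ℕ) : O^[n] x ∈ X := by
  induction n with
  | zero => exact hx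
  | succ n ih => rw [Function.iterate_succ_apply']; exact hX _ ih

theorem iter_le {x : P} {n m : ℕ} (h : O^[n] x = 0) (hnm : n ≤ m) : O^[m] x = 0 := by
  obtain ⟨k, rfl⟩ := Nat.exists_eq_add_of_le hnm
  rw [Nat.add_comm, Function.iterate_add_apply, h, iter_zero]

theorem iter_per {x : P} {n : ℕ} (h : O^[n] x = x) (k : ℕ) : O^[n * k] x = x := by
  rw [Function.iterate_mul]
  induction k with
  | zero => rfl
  | succ k ih => rw [Function.iterate_succ_apply', ih, h]

theorem Nil.add {x y : P} (hx : Nil O x) (hy : Nil O y) : Nil O (x + y) := by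
  obtain ⟨n, hn⟩ := hx
  obtain ⟨m, hm⟩ := hy
  refine ⟨n + m, ?_⟩
  rw [iter_add, iter_le hn (Nat.le_add_right _ _), iter_le hm (Nat.le_add_left _ _), add_zero]

theorem Per.add {x y : P} (hx : Per O x) (hy : Per O y) : Per O (x + y) := by
  obtain ⟨n, hn0, hn⟩ := hx
  obtain ⟨m, hm0, hm⟩ := hy
  refine ⟨n * m, Nat.mul_pos hn0 hm0, ?_⟩
  rw [iter_add, iter_per hn, Nat.mul_comm, iter_per hm]

theorem eq_zero_of_nil_per {x : P} (h1 : Nil O x) (h2 : Per O x) : x = 0 := by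
  obtain ⟨n, hn⟩ := h1
  obtain ⟨m, hm0, hm⟩ := h2
  rw [← iter_per hm n]
  exact iter_le hn (Nat.le_mul_of_pos_left _ hm0)

theorem Nil.map {Q : Type*} [AddCommGroup Q] {O' : Q →+ Q} (f : P →+ Q) (hf : ∀ x, f (O x) = O' (f x)) {x : P}
    (h : Nil O x) : Nil O' (f x) := by
  have key : ∀ n x, f (O^[n] x) = O'^[n] (f x) := by
    intro n
    induction n with
    | zero => intro x; rfl
    | succ n ih => intro x; rw [Function.iterate_succ_apply, ih, hf, ← Function.iterate_succ_apply]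
  obtain ⟨n, hn⟩ := h
  exact ⟨n, by rw [← key, hn, map_zero]⟩

theorem exists_idem [Finite P] (y : P) : ∃ N, 0 < N ∧ O^[N] (O^[N] y) = O^[N] y := by
  obtain ⟨i, j, hij, h⟩ := Finite.exists_ne_map_eq_of_infinite (fun n : ℕ => O^[n] y)
  have key : ∀ i j : ℕ, i < j → O^[i] y = O^[j] y → ∃ N, 0 < N ∧ O^[N] (O^[N] y) = O^[N] y := by
    intro i j hij h
    obtain ⟨p, rfl⟩ := Nat.exists_eq_add_of_lt hij
    have h1 : O^[p + 1] (O^[i] y) = O^[i] y := by
      rw [← Function.iterate_add_apply, Nat.add_comm, ← Nat.add_assoc]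
      exact h.symm
    have h2 := iter_per h1 (i + 1)
    have hle : i ≤ (p + 1) * (i + 1) := by nlinarith [Nat.zero_le p, Nat.zero_le i, Nat.zero_le (p * i)]
    obtain ⟨r, hr⟩ := Nat.exists_eq_add_of_le hle
    refine ⟨(p + 1) * (i + 1), by positivity, ?_⟩
    have e1 : O^[(p + 1) * (i + 1)] y = O^[r] (O^[i] y) := by
      rw [hr, Nat.add_comm i r, Function.iterate_add_apply]
    rw [e1, ← Function.iterate_add_apply, Nat.add_comm, Function.iterate_add_apply, h2]
  rcases Nat.lt_or_gt_of_ne hij with h1 | h1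
  · exact key i j h1 h
  · exact key j i h1 h.symm

theorem fitting [Finite P] (two : ∀ m : P, m + m = 0) {X : AddSubgroup P} (hX : ∀ x ∈ X, O x ∈ X) {y : P} (hy : y ∈ X) :
    ∃ x ∈ X, ∃ x' ∈ X, Nil O x ∧ Per O x' ∧ y = x + x' := by
  obtain ⟨N, hN, h⟩ := exists_idem (O := O) y
  refine ⟨y + O^[N] y, add_mem hy (iter_mem hX hy N), O^[N] y, iter_mem hX hy N, ⟨N, ?_⟩, ⟨N, hN, h⟩, ?_⟩
  · rw [iter_add, h, two]
  · rw [add_assoc, two, add_zero]

theorem fitting_unique (two : ∀ m : P, m + m = 0) {x x' y y' : P} (hx : Nil O x) (hx' : Per O x') (hy : Nil O y)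
    (hy' : Per O y') (h : x + x' = y + y') : x' = y' := by
  have e : x + y = x' + y' := by
    calc x + y = (x + x') + (x' + y) := by rw [add_assoc, ← add_assoc x', two, zero_add]
      _ = (y + y') + (x' + y) := by rw [h]
      _ = (y + y) + (x' + y') := by abel
      _ = x' + y' := by rw [two, zero_add]
  have h1 : x' + y' = 0 := eq_zero_of_nil_per (e ▸ hx.add hy) (hx'.add hy')
  calc x' = x' + (y' + y') := by rw [two, add_zero]
    _ = (x' + y') + y' := by rw [add_assoc]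
    _ = y' := by rw [h1, zero_add]

end fitting

/-! ### The modules -/

variable {F : Type*} [Field F] {θ : F →+* F} {e : ℕ}

/-- the modules -/
structure SzB (H : Good F θ e) (P : Type*) [AddCommGroup P] [DistribMulAction (LS F e) P] : Prop where
  two : ∀ m : P, m + m = 0
  quad : ∀ (b c : F) (m : P), H.u 0 b • (H.u 0 c • m + m) = H.u 0 c • m + m
  fix : ∀ b, b ≠ 0 → ∀ m : P, H.u 0 b • m = m → ∀ c, H.u 0 c • m = m
  disj : ∀ m : P, (∀ b, H.u 0 b • m = m) → (∀ b, H.u 0 b • H.w • m = H.w • m) → m = 0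

section mods

variable (H : Good F θ e) (P : Type*) [AddCommGroup P] [DistribMulAction (LS F e) P]

/-- `C_P(Z)` -/
def BZ : AddSubgroup P where
  carrier := {m | ∀ b, H.u 0 b • m = m}
  zero_mem' := fun b => smul_zero _
  add_mem' := fun {x y} hx hy b => by rw [smul_add, hx b, hy b]
  neg_mem' := fun {x} hx b => by rw [smul_neg, hx b]

variable {H P}

theorem mem_BZ {m : P} : m ∈ BZ H P ↔ ∀ b, H.u 0 b • m = m := Iff.rfl

theorem u_comm (a b c : F) : H.u a b * H.u 0 c = H.u 0 c * H.u a b := by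
  rw [H.u_mul, H.u_mul]
  simp only [map_zero, mul_zero, zero_mul, add_zero, zero_add]
  congr 1
  ring

theorem u_split (a b : F) : H.u a b = H.u a 0 * H.u 0 b := by
  rw [H.u_mul]
  simp only [map_zero, mul_zero, add_zero, zero_add]

theorem BZ_u {m : P} (hm : m ∈ BZ H P) (a b : F) : H.u a b • m ∈ BZ H P := by
  intro c
  rw [← mul_smul, ← u_comm, mul_smul, hm c]

theorem BZ_d {m : P} (hm : m ∈ BZ H P) (k : Fˣ) : H.d k • m ∈ BZ H P := by
  intro b
  have h1 := H.d_mul_u k 0 (b * (θ k)⁻¹)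
  have hθ : θ (k : F) ≠ 0 := (map_ne_zero θ).2 k.ne_zero
  rw [zero_mul, zero_mul, inv_mul_cancel_right₀ hθ] at h1
  rw [← mul_smul, ← h1, mul_smul, hm]

theorem act_u {m : P} (hm : m ∈ BZ H P) (a b : F) : H.u a b • m = H.u a 0 • m := by
  rw [u_split, mul_smul, hm]

theorem t_add {m : P} (hm : m ∈ BZ H P) (a b : F) : H.u (a + b) 0 • m = H.u a 0 • H.u b 0 • m := by
  rw [← mul_smul, H.u_mul]
  exact (act_u hm _ _).symm

theorem t_comm {m : P} (hm : m ∈ BZ H P) (a b : F) : H.u a 0 • H.u b 0 • m = H.u b 0 • H.u a 0 • m := by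
  rw [← t_add hm, ← t_add hm, add_comm]

theorem t_t {m : P} (hm : m ∈ BZ H P) (a : F) : H.u a 0 • H.u a 0 • m = m := by
  rw [← t_add hm, H.add_self, H.u_zero, one_smul]

theorem d_t (k : Fˣ) (a : F) (m : P) : H.d k • H.u a 0 • m = H.u (a * (k : F) ^ 2 * (θ k)⁻¹) 0 • H.d k • m := by
  rw [← mul_smul, H.d_mul_u, zero_mul, mul_smul]

namespace SzB

variable (h : SzB H P)
include h

theorem comm_mem (c : F) (m : P) : H.u 0 c • m + m ∈ BZ H P := fun b => h.quad b c m

theorem mem_of {b : F} (hb : b ≠ 0) {m : P} (hm : H.u 0 b • m = m) : m ∈ BZ H P := h.fix b hb m hm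

theorem add_eq_zero {x y : P} (he : x + y = 0) : x = y := by
  calc x = x + (y + y) := by rw [h.two, add_zero]
    _ = (x + y) + y := by rw [add_assoc]
    _ = y := by rw [he, zero_add]

/-- `B ∩ X = [w (B ∩ X), z]` -/
theorem surj [Finite P] {X : AddSubgroup P} (hX : ∀ (g : LS F e), ∀ x ∈ X, g • x ∈ X) {b : F} (hb : b ≠ 0) {m : P}
    (hm : m ∈ BZ H P) (hmX : m ∈ X) : ∃ y ∈ BZ H P, y ∈ X ∧ m = H.u 0 b • H.w • y + H.w • y := by
  let Y : AddSubgroup P := BZ H P ⊓ X
  let f : Y → Y := fun y => ⟨H.u 0 b • H.w • (y : P) + H.w • (y : P), h.comm_mem b _,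
    add_mem (hX _ _ (hX _ _ y.2.2)) (hX _ _ y.2.2)⟩
  have hf : Function.Injective f := by
    intro x y hxy
    have h1 : H.u 0 b • H.w • (x : P) + H.w • (x : P) = H.u 0 b • H.w • (y : P) + H.w • (y : P) :=
      congrArg Subtype.val hxy
    have h2 : H.u 0 b • H.w • ((x : P) + y) = H.w • ((x : P) + y) := by
      apply h.add_eq_zero
      rw [smul_add, smul_add]
      calc H.u 0 b • H.w • (x : P) + H.u 0 b • H.w • (y : P) + (H.w • (x : P) + H.w • (y : P))
          = (H.u 0 b • H.w • (x : P) + H.w • (x : P)) + (H.u 0 b • H.w • (y : P) + H.w • (y : P)) := by abel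
        _ = 0 := by rw [h1]; exact h.two _
    have h3 := h.disj ((x : P) + y) (mem_BZ.1 (add_mem x.2.1 y.2.1)) (h.fix b hb _ h2)
    exact Subtype.ext (h.add_eq_zero h3)
  obtain ⟨y, hy⟩ := (Finite.injective_iff_surjective.1 hf) ⟨m, hm, hmX⟩
  exact ⟨y, y.2.1, y.2.2, (congrArg Subtype.val hy).symm⟩

theorem surj' [Finite P] {b : F} (hb : b ≠ 0) {m : P} (hm : m ∈ BZ H P) :
    ∃ y ∈ BZ H P, m = H.u 0 b • H.w • y + H.w • y := by
  obtain ⟨y, hy, -, h1⟩ := h.surj (X := ⊤) (fun _ _ _ => AddSubgroup.mem_top _) hb hm (AddSubgroup.mem_top _)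
  exact ⟨y, hy, h1⟩

/-- `X = w (B ∩ X) + (B ∩ X)` -/
theorem dec [Finite P] {X : AddSubgroup P} (hX : ∀ (g : LS F e), ∀ x ∈ X, g • x ∈ X) {m : P} (hm : m ∈ X) :
    ∃ y ∈ BZ H P, y ∈ X ∧ ∃ y' ∈ BZ H P, y' ∈ X ∧ m = H.w • y + y' := by
  obtain ⟨y, hy, hyX, h1⟩ := h.surj hX (one_ne_zero (α := F)) (h.comm_mem 1 m) (add_mem (hX _ _ hm) hm)
  refine ⟨y, hy, hyX, m + H.w • y, ?_, add_mem hm (hX _ _ hyX), ?_⟩
  · apply h.mem_of (one_ne_zero (α := F))
    apply h.add_eq_zero
    rw [smul_add]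
    calc H.u 0 1 • m + H.u 0 1 • H.w • y + (m + H.w • y)
        = (H.u 0 1 • m + m) + (H.u 0 1 • H.w • y + H.w • y) := by abel
      _ = 0 := by rw [h1]; exact h.two _
  · rw [← add_assoc, add_comm (H.w • y) m, add_assoc, h.two, add_zero]

/-- **`C_B(t) = [B, t]`** -/
theorem jordan [Finite P] {a : F} (ha : a ≠ 0) {y : P} (hy : y ∈ BZ H P) (h1 : H.u a 0 • y = y) :
    ∃ n ∈ BZ H P, y = H.u a 0 • n + n := by
  have hz : a * θ a ≠ 0 := mul_ne_zero ha ((map_ne_zero θ).2 ha)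
  obtain ⟨y', -, h2⟩ := h.surj' hz hy
  set m := H.w • y' with hm
  have ht : ∀ x : P, H.u a 0 • H.u a 0 • x = H.u 0 (a * θ a) • x := by
    intro x
    rw [← mul_smul, H.u_mul, H.add_self]
    congr 2
    ring
  have h3 : H.u a 0 • (H.u a 0 • m + m) + (H.u a 0 • m + m) = y := by
    rw [smul_add, ht, h2]
    calc H.u 0 (a * θ a) • m + H.u a 0 • m + (H.u a 0 • m + m)
        = H.u 0 (a * θ a) • m + m + (H.u a 0 • m + H.u a 0 • m) := by abel
      _ = _ := by rw [h.two, add_zero]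
  generalize H.u a 0 • m + m = n at h3
  refine ⟨n, ?_, h3.symm⟩
  apply h.mem_of hz
  apply h.add_eq_zero
  calc H.u 0 (a * θ a) • n + n = H.u a 0 • H.u a 0 • n + n := by rw [ht]
    _ = H.u a 0 • (H.u a 0 • n + n) + (H.u a 0 • n + n) := by
        rw [smul_add]
        calc H.u a 0 • H.u a 0 • n + n = H.u a 0 • H.u a 0 • n + n + (H.u a 0 • n + H.u a 0 • n) := by
              rw [h.two, add_zero]
          _ = _ := by abel
    _ = H.u a 0 • y + y := by rw [h3]
    _ = 0 := by rw [h1]; exact h.two _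

end SzB

/-- submodules -/
theorem SzB.of_inj {Q : Type*} [AddCommGroup Q] [DistribMulAction (LS F e) Q] (h : SzB H P) (f : Q →+ P)
    (hf : Function.Injective f) (hg : ∀ (g : LS F e) x, f (g • x) = g • f x) : SzB H Q where
  two m := hf (by rw [map_add, map_zero]; exact h.two _)
  quad b c m := hf (by rw [hg, map_add, hg]; exact h.quad b c _)
  fix b hb m hm c := hf (by
    rw [hg]
    exact h.fix b hb _ (by rw [← hg, hm]) c)
  disj m h1 h2 := hf (by
    rw [map_zero]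
    exact h.disj _ (fun b => by rw [← hg, h1]) (fun b => by rw [← hg, ← hg, h2]))

/-- `z̄` fixes `m̄`: `m ∈ B + X` -/
theorem SzB.exists_of_mem [Finite P] (h : SzB H P) {X : AddSubgroup P} (hX : ∀ (g : LS F e), ∀ x ∈ X, g • x ∈ X)
    {b : F} (hb : b ≠ 0) {m : P} (hm : H.u 0 b • m + m ∈ X) : ∃ x ∈ X, m + x ∈ BZ H P := by
  obtain ⟨y, -, hyX, h1⟩ := h.surj hX hb (h.comm_mem b m) hm
  refine ⟨H.w • y, hX _ _ hyX, h.mem_of hb (h.add_eq_zero ?_)⟩
  rw [smul_add]
  calc H.u 0 b • m + H.u 0 b • H.w • y + (m + H.w • y)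
      = (H.u 0 b • m + m) + (H.u 0 b • H.w • y + H.w • y) := by abel
    _ = 0 := by rw [h1]; exact h.two _

/-- quotients -/
theorem SzB.of_surj [Finite P] {Q : Type*} [AddCommGroup Q] [DistribMulAction (LS F e) Q] (h : SzB H P) (f : P →+ Q)
    (hf : Function.Surjective f) (hg : ∀ (g : LS F e) x, f (g • x) = g • f x) : SzB H Q := by
  have hX : ∀ (g : LS F e), ∀ x ∈ f.ker, g • x ∈ f.ker := by
    intro g x hx
    rw [AddMonoidHom.mem_ker] at hx ⊢
    rw [hg, hx, smul_zero]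
  have htwo : ∀ q : Q, q + q = 0 := by
    intro q
    obtain ⟨m, rfl⟩ := hf q
    rw [← map_add, h.two, map_zero]
  have hz : ∀ {b : F}, b ≠ 0 → ∀ m : P, H.u 0 b • f m = f m → ∃ m' ∈ BZ H P, f m' = f m := by
    intro b hb m hm
    have h1 : H.u 0 b • m + m ∈ f.ker := by
      rw [AddMonoidHom.mem_ker, map_add, hg, hm]
      exact htwo _
    obtain ⟨x, hx, h2⟩ := h.exists_of_mem hX hb h1
    exact ⟨m + x, h2, by rw [map_add, AddMonoidHom.mem_ker.1 hx, add_zero]⟩
  exact {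
    two := htwo
    quad := by
      intro b c q
      obtain ⟨m, rfl⟩ := hf q
      rw [← hg, ← map_add, ← hg, h.quad]
    fix := by
      intro b hb q hq c
      obtain ⟨m, rfl⟩ := hf q
      obtain ⟨m', hm', h1⟩ := hz hb m hq
      rw [← h1, ← hg, hm' c]
    disj := by
      intro q h1 h2
      obtain ⟨m, rfl⟩ := hf q
      obtain ⟨m', hm', e1⟩ := hz (one_ne_zero (α := F)) m (h1 1)
      rw [← e1, ← hg] at h2
      obtain ⟨m'', hm'', e2⟩ := hz (one_ne_zero (α := F)) (H.w • m') (h2 1)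
      -- `w m' + m'' ∈ X`
      have h3 : H.w • m' + m'' ∈ f.ker := by
        rw [AddMonoidHom.mem_ker, map_add, e2]
        exact htwo _
      obtain ⟨y, hy, hyX, y', hy', hyX', h4⟩ := h.dec hX h3
      -- `w (m' + y) = m'' + y'`
      have h5 : H.w • (m' + y) = m'' + y' := by
        apply h.add_eq_zero
        rw [smul_add]
        calc H.w • m' + H.w • y + (m'' + y') = (H.w • m' + m'') + (H.w • y + y') := by abel
          _ = 0 := by rw [← h4]; exact h.two _
      have h6 := h.disj (m' + y) (mem_BZ.1 (add_mem hm' hy)) (by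
        rw [h5]
        exact mem_BZ.1 (add_mem hm'' hy'))
      have h7 : m' = y := h.add_eq_zero h6
      rw [← e1, h7]
      exact hyX }

end mods

end Cfsg.Agent.Omega.NO1.SZ
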