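import Cfsg.Agent.Omega.NO1.SZ.Step

/-!
# N1, THEOREM SZ (#19896), CLAIM A

`H : Good F θ e`, `3 ≤ |F|`, `P` finite with `SzB H P`, `B = BZ H P = C_P(Z)`:

* `SzB.comm_fx` : `[B, T]` is centralised by `T`;
* `SzB.fx_of` : `C_B(t) = C_B(T)` for `t ∈ T - Z`;
* `SzB.exists_comm` : `C_B(T) = [B, t]`;
* `SzB.card_sq` : `|C_B(T)|² = |B|`, `SzB.card_BZ` : `|B|² = |P|`.
-/

set_option autoImplicit false
set_option linter.unusedSectionVars false
set_option linter.unusedVariables false

namespace Cfsg.Agent.Omega.NO1.SZ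

open Cfsg.Agent.Omega.TwoFFour
open Cfsg.Agent.LieRecognition.SzMatrix

universe u

variable {F : Type*} [Field F] {θ : F →+* F} {e : ℕ}

section act

variable {P : Type*} [AddCommGroup P] [DistribMulAction (LS F e) P]

/-- the action on a submodule -/
@[reducible] def subAct (X : AddSubgroup P) (hX : ∀ (g : LS F e), ∀ x ∈ X, g • x ∈ X) : DistribMulAction (LS F e) X where
  smul g x := ⟨g • (x : P), hX g x x.2⟩
  one_smul x := Subtype.ext (one_smul _ _)
  mul_smul g h x := Subtype.ext (mul_smul _ _ _)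
  smul_zero g := Subtype.ext (smul_zero _)
  smul_add g x y := Subtype.ext (smul_add _ _ _)

/-- the action on a quotient -/
@[reducible] def quoAct (X : AddSubgroup P) (hX : ∀ (g : LS F e), ∀ x ∈ X, g • x ∈ X) :
    DistribMulAction (LS F e) (P ⧸ X) where
  smul g x := QuotientAddGroup.map X X (DistribSMul.toAddMonoidHom P g) (fun x hx => hX g x hx) x
  one_smul x := by
    induction x using QuotientAddGroup.induction_on with
    | H x => exact congrArg _ (one_smul _ x)
  mul_smul g h x := by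
    induction x using QuotientAddGroup.induction_on with
    | H x => exact congrArg _ (mul_smul g h x)
  smul_zero g := map_zero _
  smul_add g x y := map_add _ _ _

end act

section nat

variable {H : Good F θ e} {P : Type*} [AddCommGroup P] [DistribMulAction (LS F e) P] [Finite F] [Finite P]

/-- natural coordinates of an irreducible module -/
theorem nat_of_irr (h3 : 3 ≤ Nat.card F) (h : SzB H P) (hne : ∃ m : P, m ≠ 0)
    (hirr : ∀ X : AddSubgroup P, (∀ (g : LS F e), ∀ x ∈ X, g • x ∈ X) → X = ⊥ ∨ X = ⊤) :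
    ∃ f : P → Fin 4 → F, Function.Bijective f ∧ NM H ⊤ f := by
  have hneg : ∀ m : P, -m = m := fun m => neg_eq_of_add_eq_zero_left (h.two m)
  have hy : Hy H P := {
    three := h3
    two := h.two
    quad := by
      intro b c m
      rw [sub_eq_add_neg, hneg]
      exact h.quad b c m
    irr := hirr
    ntriv := by
      by_contra hcon
      push Not at hcon
      obtain ⟨m, hm⟩ := hne
      exact hm (h.disj m (fun b => hcon _ _) fun b => hcon _ _) }
  obtain ⟨f, hf, hadd, hsm⟩ := hy.exists_nat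
  exact ⟨f, hf, ⟨fun x _ y _ => hadd x y, fun g m _ => hsm g m⟩⟩

end nat

/-- **CLAIM A**, in terms of nilpotent elements -/
theorem claim_aux {H : Good F θ e} [Finite F] (h3 : 3 ≤ Nat.card F) {k l r : Fˣ} (hkl : (k : F) + l = r)
    (hc : θ k * (k : F)⁻¹ + θ l * (l : F)⁻¹ + θ r * (r : F)⁻¹ ≠ 0) :
    ∀ (n : ℕ) (P : Type u) [AddCommGroup P] [DistribMulAction (LS F e) P] [Finite P], Nat.card P = n → SzB H P →
      (∀ y ∈ BZ H P, Nil (OO H P k l r) y → ∀ a, H.u a 0 • y = y) ∧
        ∀ m ∈ BZ H P, ∀ a, Nil (OO H P k l r) (H.u a 0 • m + m) := by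
  intro n
  induction n using Nat.strong_induction_on with
  | _ n ih =>
  intro P _ _ _ hcard h
  by_cases hne : ∃ m : P, m ≠ 0
  swap
  · push Not at hne
    exact ⟨fun y _ _ a => by rw [hne y, smul_zero], fun m _ a => ⟨0, hne _⟩⟩
  by_cases hirr : ∀ X : AddSubgroup P, (∀ (g : LS F e), ∀ x ∈ X, g • x ∈ X) → X = ⊥ ∨ X = ⊤
  · -- irreducible
    obtain ⟨f, hf, N⟩ := nat_of_irr h3 h hne hirr
    have htop : ∀ x : P, x ∈ (⊤ : AddSubgroup P) := fun x => AddSubgroup.mem_top x
    have hinv : ∀ (g : LS F e), ∀ x ∈ (⊤ : AddSubgroup P), g • x ∈ (⊤ : AddSubgroup P) := fun _ _ _ => htop _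
    have h0 : f 0 = 0 := by
      have h1 := N.add 0 (zero_mem _) 0 (zero_mem _)
      rw [add_zero] at h1
      exact left_eq_add.1 h1
    constructor
    · intro y hy hn a
      have h1 := N.one_of_nil hinv hc (htop y) hn
      apply hf.1
      obtain ⟨h2, h3⟩ := N.two_three (htop y) hy
      obtain ⟨h4, h5⟩ := N.two_three (htop (H.u a 0 • y)) (BZ_u hy _ _)
      refine ext4 ?_ (N.t_one (htop y) hy a) (by rw [h4, h2]) (by rw [h5, h3])
      rw [N.t_zero (htop y) hy, h1]; ring
    · intro m hm a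
      refine N.nil_of hinv (fun x _ hx => hf.1 (by rw [hx, h0])) hkl (htop _) (add_mem (BZ_u hm _ _) hm) ?_
      rw [N.add _ (htop _) _ (htop _)]
      show f (H.u a 0 • m) 1 + f m 1 = 0
      rw [N.t_one (htop m) hm]
      exact H.add_self _
  · -- reducible
    push Not at hirr
    obtain ⟨X, hX, hXb, hXt⟩ := hirr
    obtain ⟨M₁, ⟨hM₁, hM₁b⟩, hmin⟩ := (wellFounded_lt (α := AddSubgroup P)).has_min
      {X | (∀ (g : LS F e), ∀ x ∈ X, g • x ∈ X) ∧ X ≠ ⊥} ⟨X, hX, hXb⟩
    have hM₁t : M₁ ≠ ⊤ := by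
      rintro rfl
      exact hmin X ⟨hX, hXb⟩ (lt_top_iff_ne_top.2 hXt)
    obtain ⟨M₂, ⟨hM₂, h12, hM₂t⟩, hmax⟩ := (wellFounded_gt (α := AddSubgroup P)).has_min
      {X | (∀ (g : LS F e), ∀ x ∈ X, g • x ∈ X) ∧ M₁ ≤ X ∧ X ≠ ⊤} ⟨M₁, hM₁, le_rfl, hM₁t⟩
    let _ := subAct M₁ hM₁
    let _ := subAct M₂ hM₂
    let _ := quoAct M₁ hM₁
    let _ := quoAct M₂ hM₂
    -- the modules
    have hs1 : SzB H M₁ := h.of_inj M₁.subtype Subtype.val_injective (fun g x => rfl)
    have hs2 : SzB H M₂ := h.of_inj M₂.subtype Subtype.val_injective (fun g x => rfl)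
    have hq1 : SzB H (P ⧸ M₁) := h.of_surj (QuotientAddGroup.mk' M₁) (QuotientAddGroup.mk'_surjective M₁) (fun g x => rfl)
    have hq2 : SzB H (P ⧸ M₂) := h.of_surj (QuotientAddGroup.mk' M₂) (QuotientAddGroup.mk'_surjective M₂) (fun g x => rfl)
    have hlt2 : Nat.card M₂ < n := by
      rw [← hcard]
      have hx : ∃ x, x ∉ M₂ := by
        by_contra hcon
        push Not at hcon
        exact hM₂t ((AddSubgroup.eq_top_iff' _).2 hcon)
      obtain ⟨x, hx⟩ := hx
      exact Finite.card_subtype_lt hx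
    have hlt1 : Nat.card (P ⧸ M₁) < n := by
      rw [← hcard, AddSubgroup.card_eq_card_quotient_mul_card_addSubgroup M₁]
      have h1 : 1 < Nat.card M₁ := AddSubgroup.one_lt_card_iff_ne_bot M₁ |>.2 hM₁b
      have h2 : 0 < Nat.card (P ⧸ M₁) := Nat.card_pos
      nlinarith
    obtain ⟨i1, i2⟩ := ih _ hlt1 (P ⧸ M₁) rfl hq1
    obtain ⟨j1, -⟩ := ih _ hlt2 M₂ rfl hs2
    -- coordinates
    obtain ⟨f₁, hf₁, N₁⟩ := nat_of_irr h3 hs1 (by
      by_contra hcon
      push Not at hcon
      apply hM₁b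
      rw [AddSubgroup.eq_bot_iff_forall]
      intro x hx
      exact congrArg Subtype.val (hcon ⟨x, hx⟩)) (by
      intro Y hY
      by_cases hYb : Y = ⊥
      · exact Or.inl hYb
      right
      have h1 : (∀ (g : LS F e), ∀ x ∈ Y.map M₁.subtype, g • x ∈ Y.map M₁.subtype) := by
        rintro g _ ⟨y, hy, rfl⟩
        exact ⟨g • y, hY g y hy, rfl⟩
      have h2 : Y.map M₁.subtype ≠ ⊥ := by
        intro hb
        apply hYb
        rw [AddSubgroup.eq_bot_iff_forall] at hb ⊢
        intro y hy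
        exact Subtype.ext (hb y ⟨y, hy, rfl⟩)
      have h4 : Y.map M₁.subtype ≤ M₁ := by
        rintro _ ⟨y, -, rfl⟩
        exact y.2
      have h5 : Y.map M₁.subtype = M₁ := by
        by_contra hne'
        exact hmin _ ⟨h1, h2⟩ (lt_of_le_of_ne h4 hne')
      rw [AddSubgroup.eq_top_iff']
      intro x
      have h6 : (x : P) ∈ Y.map M₁.subtype := by rw [h5]; exact x.2
      obtain ⟨y, hy, hyx⟩ := h6
      rwa [← Subtype.ext hyx])
    obtain ⟨f₂, hf₂, N₂⟩ := nat_of_irr h3 hq2 (by
      by_contra hcon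
      push Not at hcon
      apply hM₂t
      rw [AddSubgroup.eq_top_iff']
      intro x
      exact (QuotientAddGroup.eq_zero_iff x).1 (hcon x)) (by
      intro Y hY
      by_cases hYt : Y = ⊤
      · exact Or.inr hYt
      left
      have h1 : (∀ (g : LS F e), ∀ x ∈ Y.comap (QuotientAddGroup.mk' M₂), g • x ∈ Y.comap (QuotientAddGroup.mk' M₂)) :=
        fun g x hx => hY g _ hx
      have h2 : M₂ ≤ Y.comap (QuotientAddGroup.mk' M₂) := by
        intro x hx
        rw [AddSubgroup.mem_comap]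
        have : (QuotientAddGroup.mk' M₂) x = 0 := (QuotientAddGroup.eq_zero_iff x).2 hx
        rw [this]
        exact zero_mem _
      have h4 : Y.comap (QuotientAddGroup.mk' M₂) ≠ ⊤ := by
        intro ht
        apply hYt
        rw [AddSubgroup.eq_top_iff']
        intro y
        obtain ⟨x, rfl⟩ := QuotientAddGroup.mk'_surjective M₂ y
        have : x ∈ Y.comap (QuotientAddGroup.mk' M₂) := by rw [ht]; exact AddSubgroup.mem_top x
        exact this
      have h5 : Y.comap (QuotientAddGroup.mk' M₂) = M₂ := by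
        by_contra hne'
        exact hmax _ ⟨h1, h12.trans h2, h4⟩ (lt_of_le_of_ne h2 (Ne.symm hne'))
      rw [AddSubgroup.eq_bot_iff_forall]
      intro y hy
      obtain ⟨x, rfl⟩ := QuotientAddGroup.mk'_surjective M₂ y
      have : x ∈ Y.comap (QuotientAddGroup.mk' M₂) := hy
      rw [h5] at this
      exact (QuotientAddGroup.eq_zero_iff x).2 this)
    have htop1 : ∀ x : M₁, x ∈ (⊤ : AddSubgroup M₁) := fun x => AddSubgroup.mem_top x
    have htop2 : ∀ x : P ⧸ M₂, x ∈ (⊤ : AddSubgroup (P ⧸ M₂)) := fun x => AddSubgroup.mem_top x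
    have hf10 : f₁ 0 = 0 := by
      have h1 := N₁.add 0 (zero_mem _) 0 (zero_mem _)
      rw [add_zero] at h1
      exact left_eq_add.1 h1
    have hf20 : f₂ 0 = 0 := by
      have h1 := N₂.add 0 (zero_mem _) 0 (zero_mem _)
      rw [add_zero] at h1
      exact left_eq_add.1 h1
    classical
    let g₁ : P → Fin 4 → F := fun x => if hx : x ∈ M₁ then f₁ ⟨x, hx⟩ else 0
    have hg₁ : ∀ x (hx : x ∈ M₁), g₁ x = f₁ ⟨x, hx⟩ := fun x hx => dif_pos hx
    let g₂ : P → Fin 4 → F := fun x => f₂ (QuotientAddGroup.mk' M₂ x)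
    have hmk : ∀ y ∈ BZ H P, QuotientAddGroup.mk' M₁ y ∈ BZ H (P ⧸ M₁) := by
      intro y hy b
      exact congrArg (QuotientAddGroup.mk' M₁) (hy b)
    have htwo : ∀ x y : P ⧸ M₁, x + y = 0 → x = y := fun x y => hq1.add_eq_zero
    have D : St H k l r M₁ M₂ g₁ g₂ := {
      three := h3
      h := h
      klr := hkl
      c0 := hc
      inv := hM₁
      N₁ := {
        add := by
          intro x hx y hy
          rw [hg₁ _ (add_mem hx hy), hg₁ _ hx, hg₁ _ hy]
          exact N₁.add ⟨x, hx⟩ (htop1 _) ⟨y, hy⟩ (htop1 _)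
        smul := by
          intro g m hm
          rw [hg₁ _ (hM₁ g m hm), hg₁ _ hm]
          exact N₁.smul g ⟨m, hm⟩ (htop1 _) }
      inj := by
        intro x hx h0
        rw [hg₁ _ hx] at h0
        exact congrArg Subtype.val (hf₁.1 (h0.trans hf10.symm))
      q1 := by
        intro y hy hn a
        have h1 := i1 (QuotientAddGroup.mk' M₁ y) (hmk y hy)
          (hn.map (QuotientAddGroup.mk' M₁) (fun x => OO_map _ (fun g x => rfl) x)) a
        have h2 : QuotientAddGroup.mk' M₁ (H.u a 0 • y + y) = 0 := by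
          rw [map_add]
          show H.u a 0 • (QuotientAddGroup.mk' M₁ y) + QuotientAddGroup.mk' M₁ y = 0
          rw [h1]
          exact hq1.two _
        exact (QuotientAddGroup.eq_zero_iff _).1 h2
      q2 := by
        intro m hm a
        obtain ⟨n, hn⟩ := i2 (QuotientAddGroup.mk' M₁ m) (hmk m hm) a
        refine ⟨n, ?_⟩
        have key : ∀ (n : ℕ) (x : P), QuotientAddGroup.mk' M₁ ((OO H P k l r)^[n] x) =
            (OO H (P ⧸ M₁) k l r)^[n] (QuotientAddGroup.mk' M₁ x) := by
          intro n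
          induction n with
          | zero => intro x; rfl
          | succ n ih => intro x; rw [Function.iterate_succ_apply, ih, OO_map _ (fun g x => rfl),
              ← Function.iterate_succ_apply]
        have h2 : QuotientAddGroup.mk' M₁ ((OO H P k l r)^[n] (H.u a 0 • m + m)) = 0 := by
          rw [key]
          exact hn
        exact (QuotientAddGroup.eq_zero_iff _).1 h2
      q3 := by
        intro y hy a ha h1
        have h2 : H.u a 0 • (QuotientAddGroup.mk' M₁ y) = QuotientAddGroup.mk' M₁ y := by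
          apply htwo
          exact (QuotientAddGroup.eq_zero_iff (H.u a 0 • y + y)).2 h1
        obtain ⟨n', hn', h3'⟩ := hq1.jordan ha (hmk y hy) h2
        obtain ⟨n'', rfl⟩ := QuotientAddGroup.mk'_surjective M₁ n'
        have h4 : H.u 0 1 • n'' + n'' ∈ M₁ := by
          have h5 : QuotientAddGroup.mk' M₁ (H.u 0 1 • n'' + n'') = 0 := by
            rw [map_add]
            show H.u 0 1 • (QuotientAddGroup.mk' M₁ n'') + QuotientAddGroup.mk' M₁ n'' = 0
            rw [hn' 1]
            exact hq1.two _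
          exact (QuotientAddGroup.eq_zero_iff _).1 h5
        obtain ⟨x, hx, hxB⟩ := h.exists_of_mem hM₁ (one_ne_zero (α := F)) h4
        refine ⟨n'' + x, hxB, ?_⟩
        have hx0 : QuotientAddGroup.mk' M₁ x = 0 := (QuotientAddGroup.eq_zero_iff _).2 hx
        have h6 : QuotientAddGroup.mk' M₁ (y + (H.u a 0 • (n'' + x) + (n'' + x))) = 0 := by
          rw [map_add, map_add, map_add]
          have h7 : QuotientAddGroup.mk' M₁ (H.u a 0 • (n'' + x)) = H.u a 0 • (QuotientAddGroup.mk' M₁ n'') := by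
            show H.u a 0 • (QuotientAddGroup.mk' M₁ (n'' + x)) = _
            rw [map_add, hx0, add_zero]
          rw [h7, hx0, add_zero, ← h3']
          exact hq1.two _
        exact (QuotientAddGroup.eq_zero_iff _).1 h6
      m2 := by
        intro y hy hyM hn a
        have h1 : (⟨y, hyM⟩ : M₂) ∈ BZ H M₂ := fun b => Subtype.ext (hy b)
        have key : ∀ (n : ℕ) (x : M₂), (((OO H M₂ k l r)^[n] x : M₂) : P) = (OO H P k l r)^[n] (x : P) := by
          intro n
          induction n with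
          | zero => intro x; rfl
          | succ n ih => intro x; rw [Function.iterate_succ_apply, ih, Function.iterate_succ_apply]; rfl
        have h2 : Nil (OO H M₂ k l r) ⟨y, hyM⟩ := by
          obtain ⟨n, hn⟩ := hn
          exact ⟨n, Subtype.ext ((key n _).trans hn)⟩
        exact congrArg Subtype.val (j1 _ h1 h2 a)
      N₂ := {
        add := by
          intro x _ y _
          show f₂ (QuotientAddGroup.mk' M₂ (x + y)) = _
          rw [map_add]
          exact N₂.add _ (htop2 _) _ (htop2 _)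
        smul := by
          intro g m _
          exact N₂.smul g (QuotientAddGroup.mk' M₂ m) (htop2 _) }
      f₂_M₁ := by
        intro x hx
        have h1 : QuotientAddGroup.mk' M₂ x = 0 := (QuotientAddGroup.eq_zero_iff _).2 (h12 hx)
        show f₂ (QuotientAddGroup.mk' M₂ x) = 0
        rw [h1, hf20]
      f₂_ker := by
        intro x hx
        exact (QuotientAddGroup.eq_zero_iff _).1 (hf₂.1 (hx.trans hf20.symm))
      f₂_surj := by
        intro v
        obtain ⟨x, hx⟩ := hf₂.2 v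
        obtain ⟨x', rfl⟩ := QuotientAddGroup.mk'_surjective M₂ x
        exact ⟨x', hx⟩ }
    exact ⟨fun y hy hn a => D.fix_nil hy hn a, fun m hm a => (D.main hm).1 a⟩

section final

variable {H : Good F θ e} {P : Type u} [AddCommGroup P] [DistribMulAction (LS F e) P] [Finite F] [Finite P]
  (h3 : 3 ≤ Nat.card F) (h : SzB H P)

include h3 h

/-- `[B, T]` is centralised by `T` -/
theorem SzB.comm_fx {m : P} (hm : m ∈ BZ H P) (a b : F) : Fx H (H.u a b • m + m) := by
  obtain ⟨k, l, r, hkl, hc⟩ := exists_klr H h3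
  obtain ⟨h1, h2⟩ := claim_aux h3 hkl hc _ P rfl h
  intro c d
  have hB : H.u a b • m + m ∈ BZ H P := add_mem (BZ_u hm _ _) hm
  rw [act_u hB]
  apply h1 _ hB
  rw [act_u hm]
  exact h2 m hm a

/-- `C_B(t) = C_B(T)` for `t ∈ T - Z` -/
theorem SzB.fx_of {a b : F} (ha : a ≠ 0) {y : P} (hy : y ∈ BZ H P) (hf : H.u a b • y = y) : Fx H y := by
  rw [act_u hy] at hf
  obtain ⟨n, hn, rfl⟩ := h.jordan ha hy hf
  exact h.comm_fx h3 hn a 0

/-- `C_B(T) = [B, t]` for `t ∈ T - Z` -/
theorem SzB.exists_comm {a : F} (b : F) (ha : a ≠ 0) {y : P} (hf : Fx H y) :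
    ∃ n ∈ BZ H P, y = H.u a b • n + n := by
  have hy : y ∈ BZ H P := fun c => hf 0 c
  obtain ⟨n, hn, h1⟩ := h.jordan ha hy (hf a 0)
  exact ⟨n, hn, by rw [act_u hn]; exact h1⟩

omit h3 in
/-- `|B|² = |P|` -/
theorem SzB.card_BZ : Nat.card (BZ H P) ^ 2 = Nat.card P := by
  let f : (BZ H P) × (BZ H P) → P := fun y => H.w • (y.1 : P) + y.2
  have hf : Function.Bijective f := by
    constructor
    · rintro ⟨x, x'⟩ ⟨y, y'⟩ hxy
      have hxy : H.w • (x : P) + x' = H.w • (y : P) + y' := hxy
      have h1 : H.w • ((x : P) + y) = (x' : P) + y' := by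
        apply h.add_eq_zero
        rw [smul_add]
        calc H.w • (x : P) + H.w • (y : P) + ((x' : P) + y') = (H.w • (x : P) + x') + (H.w • (y : P) + y') := by abel
          _ = 0 := by rw [hxy]; exact h.two _
      have h2 := h.disj ((x : P) + y) (mem_BZ.1 (add_mem x.2 y.2)) (by
        rw [h1]
        exact mem_BZ.1 (add_mem x'.2 y'.2))
      rw [h2, smul_zero] at h1
      rw [Prod.mk.injEq]
      exact ⟨Subtype.ext (h.add_eq_zero h2), Subtype.ext (h.add_eq_zero h1.symm)⟩
    · intro m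
      obtain ⟨y, hy, -, y', hy', -, he⟩ := h.dec (X := ⊤) (fun _ _ _ => AddSubgroup.mem_top _) (AddSubgroup.mem_top m)
      exact ⟨(⟨y, hy⟩, ⟨y', hy'⟩), he.symm⟩
  rw [← Nat.card_eq_of_bijective f hf, Nat.card_prod, pow_two]

variable (H P) in
omit [Finite F] [Finite P] h3 h in
/-- `C_P(T)` -/
def FT : AddSubgroup P where
  carrier := {m | Fx H m}
  zero_mem' := Fx.zero
  add_mem' := fun hx hy => hx.add hy
  neg_mem' := fun hx => hx.neg

/-- `|C_B(T)|² = |B|` -/
theorem SzB.card_sq : Nat.card (FT H P) ^ 2 = Nat.card (BZ H P) := by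
  let f : BZ H P →+ BZ H P := {
    toFun := fun y => ⟨H.u 1 0 • (y : P) + y, add_mem (BZ_u y.2 _ _) y.2⟩
    map_zero' := Subtype.ext (by
      show H.u 1 0 • (0 : P) + 0 = 0
      rw [smul_zero, add_zero])
    map_add' := fun x y => Subtype.ext (by
      show H.u 1 0 • ((x : P) + y) + (x + y) = (H.u 1 0 • (x : P) + x) + (H.u 1 0 • (y : P) + y)
      rw [smul_add]; abel) }
  have hle : ∀ y ∈ FT H P, y ∈ BZ H P := fun y hy c => hy 0 c
  have hker : f.ker = (FT H P).addSubgroupOf (BZ H P) := by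
    ext y
    rw [AddMonoidHom.mem_ker, AddSubgroup.mem_addSubgroupOf]
    constructor
    · intro h1
      have h2 : H.u 1 0 • (y : P) + y = 0 := congrArg Subtype.val h1
      exact h.fx_of h3 one_ne_zero y.2 (h.add_eq_zero h2)
    · intro h1
      apply Subtype.ext
      show H.u 1 0 • (y : P) + y = 0
      rw [h1 1 0]
      exact h.two _
  have hrange : f.range = (FT H P).addSubgroupOf (BZ H P) := by
    ext y
    rw [AddMonoidHom.mem_range, AddSubgroup.mem_addSubgroupOf]
    constructor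
    · rintro ⟨x, rfl⟩
      exact h.comm_fx h3 x.2 1 0
    · intro h1
      obtain ⟨n, hn, he⟩ := h.exists_comm h3 0 (one_ne_zero (α := F)) h1
      exact ⟨⟨n, hn⟩, Subtype.ext he.symm⟩
  have hc : Nat.card ((FT H P).addSubgroupOf (BZ H P)) = Nat.card (FT H P) :=
    Nat.card_congr (AddSubgroup.addSubgroupOfEquivOfLe hle).toEquiv
  have h1 : Nat.card (BZ H P) = Nat.card f.range * Nat.card f.ker := by
    rw [AddSubgroup.card_eq_card_quotient_mul_card_addSubgroup f.ker]
    congr 1
    exact Nat.card_congr (QuotientAddGroup.quotientKerEquivRange f).toEquiv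
  rw [h1, hker, hrange, hc, pow_two]

end final

end Cfsg.Agent.Omega.NO1.SZ
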