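import Cfsg.Agent.Omega.NO1.SZ.Base

/-!
# N1, THEOREM SZ (#19896): CLAIM A, the induction step

* `OO k l r = d_k + d_l + d_r` with `k + l = r` : zero on `e₀`, multiplication by `c₀` on `e₁`;
* `exists_klr` : `c₀ ≠ 0` for some `k, l`;
* `arith` : `g (k) = p (θ(k)/k)`, `g, p` additive, implies `g = p = 0`;
* `step` : the induction step.
-/

set_option autoImplicit false
set_option linter.unusedSectionVars false

namespace Cfsg.Agent.Omega.NO1.SZ

open Cfsg.Agent.Omega.TwoFFour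
open Cfsg.Agent.LieRecognition.SzMatrix

variable {F : Type*} [Field F] {θ : F →+* F} {e : ℕ}

/-! ### arithmetic -/

theorem exists_theta_ne [Finite F] (H : Good F θ e) (h3 : 3 ≤ Nat.card F) : ∃ x : F, x + θ x ≠ 0 := by
  obtain ⟨c, hc0, hc1⟩ := exists_ne_ne h3
  refine ⟨c, fun h => ?_⟩
  have h1 : θ c = c := by linear_combination h - c * H.two
  have h2 := H.sq c
  rw [h1, h1] at h2
  have h3 : c * (c - 1) = 0 := by linear_combination -h2
  rcases mul_eq_zero.1 h3 with h4 | h4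
  · exact hc0 h4
  · exact hc1 (sub_eq_zero.1 h4)

theorem exists_klr [Finite F] (H : Good F θ e) (h3 : 3 ≤ Nat.card F) : ∃ k l r : Fˣ, (k : F) + l = r ∧
    θ k * (k : F)⁻¹ + θ l * (l : F)⁻¹ + θ r * (r : F)⁻¹ ≠ 0 := by
  obtain ⟨c, hc0, hc1⟩ := exists_ne_ne h3
  have key : ∃ k : F, k ≠ 0 ∧ k ≠ 1 ∧ θ k ≠ k ^ 2 := by
    by_contra hcon
    push Not at hcon
    have h1 := hcon c hc0 hc1
    have h2 : θ (θ c) = c ^ 2 := H.sq c
    rw [h1, map_pow, h1] at h2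
    have h3 : c ^ 2 * (c - 1) ^ 2 = 0 := by linear_combination h2 + (c ^ 2 - c ^ 3) * H.two
    rcases mul_eq_zero.1 h3 with h4 | h4
    · exact hc0 (pow_eq_zero_iff (two_ne_zero) |>.1 h4)
    · exact hc1 (sub_eq_zero.1 (pow_eq_zero_iff (two_ne_zero) |>.1 h4))
  obtain ⟨k, hk0, hk1, hk⟩ := key
  have hr : k + 1 ≠ 0 := by
    intro h
    apply hk1
    linear_combination h - H.two
  refine ⟨Units.mk0 k hk0, 1, Units.mk0 (k + 1) hr, by simp, fun h => hk ?_⟩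
  simp only [Units.val_mk0, Units.val_one, map_one, inv_one, mul_one, map_add] at h
  have h1 : θ k * k⁻¹ * (k * (k + 1)) + (k * (k + 1)) + (θ k + 1) * (k + 1)⁻¹ * (k * (k + 1)) = 0 := by
    linear_combination (k * (k + 1)) * h
  have h2 : θ k * k⁻¹ * (k * (k + 1)) = θ k * (k + 1) := by field_simp
  have h4 : (θ k + 1) * (k + 1)⁻¹ * (k * (k + 1)) = (θ k + 1) * k := by field_simp
  rw [h2, h4] at h1
  linear_combination h1 - (k ^ 2 + k + k * θ k) * H.two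

theorem arith [Finite F] (H : Good F θ e) (h3 : 3 ≤ Nat.card F) {g p : F → F} (hg : ∀ x y, g (x + y) = g x + g y)
    (hp : ∀ x y, p (x + y) = p x + p y) (h : ∀ k : Fˣ, g k = p (θ k * (k : F)⁻¹)) (x : F) : g x = 0 ∧ p x = 0 := by
  have hg0 : g 0 = 0 := by
    have := hg 0 0
    rw [add_zero] at this
    exact left_eq_add.1 this
  have hp0 : p 0 = 0 := by
    have := hp 0 0
    rw [add_zero] at this
    exact left_eq_add.1 this
  have key : ∀ x, g (x * θ x) = p x := by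
    intro x
    by_cases hx : x = 0
    · rw [hx, zero_mul, hg0, hp0]
    · have hθ : θ x ≠ 0 := (map_ne_zero θ).2 hx
      have h1 := h (Units.mk0 (x * θ x) (mul_ne_zero hx hθ))
      rw [Units.val_mk0] at h1
      rw [h1, map_mul, H.sq]
      congr 1
      field_simp
  have key2 : ∀ x y, g (x * θ y + y * θ x) = 0 := by
    intro x y
    have h1 := key (x + y)
    rw [hp, ← key x, ← key y, map_add] at h1
    have e1 : (x + y) * (θ x + θ y) = (x * θ y + y * θ x) + (x * θ x + y * θ y) := by ring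
    rw [e1, hg, hg (x * θ x)] at h1
    linear_combination h1
  have key3 : ∀ f, g f = 0 := by
    intro f
    obtain ⟨x₀, hx₀⟩ := exists_theta_ne H h3
    by_cases hf : f = 0
    · rw [hf, hg0]
    · have hs : f / (x₀ + θ x₀) ≠ 0 := div_ne_zero hf hx₀
      set s := f / (x₀ + θ x₀) with hsd
      have hθs : θ s ≠ 0 := (map_ne_zero θ).2 hs
      have h1 := key2 (θ s * s⁻¹ * x₀) (θ s * s⁻¹)
      have e0 : θ s * s⁻¹ * θ (θ s * s⁻¹) = s := by
        rw [map_mul, H.sq, map_inv₀]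
        field_simp
      have e1 : θ s * s⁻¹ * x₀ * θ (θ s * s⁻¹) + θ s * s⁻¹ * θ (θ s * s⁻¹ * x₀) = f := by
        have e2 : f = s * (x₀ + θ x₀) := by rw [hsd, div_mul_cancel₀ _ hx₀]
        rw [map_mul θ (θ s * s⁻¹) x₀, e2]
        linear_combination (x₀ + θ x₀) * e0
      rwa [e1] at h1
  exact ⟨key3 x, by rw [← key, key3]⟩

/-! ### the operator -/

section oper

variable (H : Good F θ e) (P : Type*) [AddCommGroup P] [DistribMulAction (LS F e) P] (k l r : Fˣ)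

/-- `d_k + d_l + d_r` -/
def OO : P →+ P := DistribSMul.toAddMonoidHom P (H.d k) + DistribSMul.toAddMonoidHom P (H.d l) +
  DistribSMul.toAddMonoidHom P (H.d r)

variable {H P k l r}

theorem OO_apply (m : P) : OO H P k l r m = H.d k • m + H.d l • m + H.d r • m := rfl

theorem OO_BZ {m : P} (hm : m ∈ BZ H P) : OO H P k l r m ∈ BZ H P := by
  rw [OO_apply]
  exact add_mem (add_mem (BZ_d hm _) (BZ_d hm _)) (BZ_d hm _)

theorem OO_mem {X : AddSubgroup P} (hX : ∀ (g : LS F e), ∀ x ∈ X, g • x ∈ X) {m : P} (hm : m ∈ X) :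
    OO H P k l r m ∈ X := by
  rw [OO_apply]
  exact add_mem (add_mem (hX _ _ hm) (hX _ _ hm)) (hX _ _ hm)

theorem OO_map {Q : Type*} [AddCommGroup Q] [DistribMulAction (LS F e) Q] (f : P →+ Q)
    (hg : ∀ (g : LS F e) x, f (g • x) = g • f x) (m : P) : f (OO H P k l r m) = OO H Q k l r (f m) := by
  rw [OO_apply, OO_apply, map_add, map_add, hg, hg, hg]

theorem d_d (k l : Fˣ) (m : P) : H.d k • H.d l • m = H.d l • H.d k • m := by
  rw [← mul_smul, ← mul_smul, H.d_mul, H.d_mul, mul_comm]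

theorem OO_d (k' : Fˣ) (m : P) : H.d k' • OO H P k l r m = OO H P k l r (H.d k' • m) := by
  rw [OO_apply, OO_apply, smul_add, smul_add, d_d k' k, d_d k' l, d_d k' r]

theorem Nil_d {m : P} (h : Nil (OO H P k l r) m) (k' : Fˣ) : Nil (OO H P k l r) (H.d k' • m) :=
  h.map (DistribSMul.toAddMonoidHom P (H.d k')) fun x => OO_d k' x

end oper

/-! ### natural coordinates -/

section nat

variable {H : Good F θ e} {P : Type*} [AddCommGroup P] [DistribMulAction (LS F e) P]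

/-- natural coordinates on the submodule `M` -/
structure NM (H : Good F θ e) {P : Type*} [AddCommGroup P] [DistribMulAction (LS F e) P] (M : AddSubgroup P)
    (f : P → Fin 4 → F) : Prop where
  add : ∀ x ∈ M, ∀ y ∈ M, f (x + y) = f x + f y
  smul : ∀ (g : LS F e), ∀ m ∈ M, f (g • m) = mv g.1 (f m)

variable {M : AddSubgroup P} {f : P → Fin 4 → F} (N : NM H M f) {k l r : Fˣ}

include N

theorem NM.two_three {m : P} (hM : m ∈ M) (hm : m ∈ BZ H P) : f m 2 = 0 ∧ f m 3 = 0 := by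
  have h1 := N.smul (H.u 0 1) m hM
  rw [hm 1] at h1
  exact (fix_Z H one_ne_zero).1 h1.symm

theorem NM.t_zero {m : P} (hM : m ∈ M) (hm : m ∈ BZ H P) (a : F) : f (H.u a 0 • m) 0 = f m 0 + a * f m 1 := by
  obtain ⟨h2, h3⟩ := N.two_three hM hm
  rw [N.smul _ m hM]
  show mv (H.U a 0) (f m) 0 = _
  rw [mv_U]
  show f m 0 + a * f m 1 + 0 * f m 2 + (a * 0 + a ^ 2 * θ a + θ 0) * f m 3 = _
  rw [h2, h3]; ring

theorem NM.t_one {m : P} (hM : m ∈ M) (hm : m ∈ BZ H P) (a : F) : f (H.u a 0 • m) 1 = f m 1 := by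
  obtain ⟨h2, h3⟩ := N.two_three hM hm
  rw [N.smul _ m hM]
  show mv (H.U a 0) (f m) 1 = _
  rw [mv_U]
  show f m 1 + θ a * f m 2 + (0 + a * θ a) * f m 3 = _
  rw [h2, h3]; ring

theorem NM.d_zero {m : P} (hM : m ∈ M) (k : Fˣ) : f (H.d k • m) 0 = k * f m 0 := by
  rw [N.smul _ m hM]
  show mv (H.D k) (f m) 0 = _
  rw [mv_D]
  rfl

theorem NM.d_one {m : P} (hM : m ∈ M) (k : Fˣ) : f (H.d k • m) 1 = θ k * (k : F)⁻¹ * f m 1 := by
  rw [N.smul _ m hM]
  show mv (H.D k) (f m) 1 = _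
  rw [mv_D]
  rfl

theorem NM.OO_zero (hX : ∀ (g : LS F e), ∀ x ∈ M, g • x ∈ M) (hkl : (k : F) + l = r) {m : P} (hM : m ∈ M) :
    f (OO H P k l r m) 0 = 0 := by
  rw [OO_apply, N.add _ (add_mem (hX _ _ hM) (hX _ _ hM)) _ (hX _ _ hM), N.add _ (hX _ _ hM) _ (hX _ _ hM)]
  show f _ 0 + f _ 0 + f _ 0 = 0
  rw [N.d_zero hM, N.d_zero hM, N.d_zero hM]
  linear_combination f m 0 * hkl + (r * f m 0) * H.two

theorem NM.OO_one (hX : ∀ (g : LS F e), ∀ x ∈ M, g • x ∈ M) {m : P} (hM : m ∈ M) :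
    f (OO H P k l r m) 1 = (θ k * (k : F)⁻¹ + θ l * (l : F)⁻¹ + θ r * (r : F)⁻¹) * f m 1 := by
  rw [OO_apply, N.add _ (add_mem (hX _ _ hM) (hX _ _ hM)) _ (hX _ _ hM), N.add _ (hX _ _ hM) _ (hX _ _ hM)]
  show f _ 1 + f _ 1 + f _ 1 = _
  rw [N.d_one hM, N.d_one hM, N.d_one hM]
  ring

/-- `e₁`-coordinate of a nilpotent element -/
theorem NM.one_of_nil (hX : ∀ (g : LS F e), ∀ x ∈ M, g • x ∈ M)
    (hc : θ k * (k : F)⁻¹ + θ l * (l : F)⁻¹ + θ r * (r : F)⁻¹ ≠ 0) {m : P} (hM : m ∈ M)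
    (h : Nil (OO H P k l r) m) : f m 1 = 0 := by
  obtain ⟨n, hn⟩ := h
  have h0 : f 0 = 0 := by
    have h1 := N.add 0 (zero_mem _) 0 (zero_mem _)
    rw [add_zero] at h1
    exact left_eq_add.1 h1
  induction n generalizing m with
  | zero =>
    have : m = 0 := hn
    rw [this, h0]; rfl
  | succ n ih =>
    rw [Function.iterate_succ_apply] at hn
    have h1 := ih (OO_mem hX hM) hn
    rw [N.OO_one hX hM] at h1
    exact (mul_eq_zero.1 h1).resolve_left hc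

theorem NM.zero_of_per (hX : ∀ (g : LS F e), ∀ x ∈ M, g • x ∈ M) (hkl : (k : F) + l = r) {m : P} (hM : m ∈ M)
    (h : Per (OO H P k l r) m) : f m 0 = 0 := by
  obtain ⟨n, hn0, hn⟩ := h
  obtain ⟨n, rfl⟩ := Nat.exists_eq_succ_of_ne_zero hn0.ne'
  rw [Function.iterate_succ_apply'] at hn
  rw [← hn]
  exact N.OO_zero hX hkl (iter_mem (fun x hx => OO_mem hX hx) hM n)

/-- an element of `M ∩ B` with `e₁`-coordinate `0` is nilpotent -/
theorem NM.nil_of (hX : ∀ (g : LS F e), ∀ x ∈ M, g • x ∈ M) (hinj : ∀ x ∈ M, f x = 0 → x = 0) (hkl : (k : F) + l = r)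
    {m : P} (hM : m ∈ M) (hm : m ∈ BZ H P) (h1 : f m 1 = 0) : Nil (OO H P k l r) m := by
  refine ⟨1, ?_⟩
  show OO H P k l r m = 0
  apply hinj _ (OO_mem hX hM)
  obtain ⟨h2, h3⟩ := N.two_three (OO_mem (k := k) (l := l) (r := r) hX hM) (OO_BZ hm)
  exact ext4 (N.OO_zero hX hkl hM) (by rw [N.OO_one hX hM, h1, mul_zero]; rfl) h2 h3

end nat

/-! ### the step -/

section step

variable {H : Good F θ e} {P : Type*} [AddCommGroup P] [DistribMulAction (LS F e) P] [Finite F] [Finite P]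
  {k l r : Fˣ} {M₁ M₂ : AddSubgroup P} {f₁ f₂ : P → Fin 4 → F}

/-- the data of the induction step -/
structure St (H : Good F θ e) {P : Type*} [AddCommGroup P] [DistribMulAction (LS F e) P] (k l r : Fˣ)
    (M₁ M₂ : AddSubgroup P) (f₁ f₂ : P → Fin 4 → F) : Prop where
  three : 3 ≤ Nat.card F
  h : SzB H P
  klr : (k : F) + l = r
  c0 : θ k * (k : F)⁻¹ + θ l * (l : F)⁻¹ + θ r * (r : F)⁻¹ ≠ 0
  inv : ∀ (g : LS F e), ∀ x ∈ M₁, g • x ∈ M₁
  N₁ : NM H M₁ f₁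
  inj : ∀ x ∈ M₁, f₁ x = 0 → x = 0
  q1 : ∀ y ∈ BZ H P, Nil (OO H P k l r) y → ∀ a, H.u a 0 • y + y ∈ M₁
  q2 : ∀ m ∈ BZ H P, ∀ a, ∃ n, (OO H P k l r)^[n] (H.u a 0 • m + m) ∈ M₁
  q3 : ∀ y ∈ BZ H P, ∀ a, a ≠ 0 → H.u a 0 • y + y ∈ M₁ → ∃ m ∈ BZ H P, y + (H.u a 0 • m + m) ∈ M₁
  m2 : ∀ y ∈ BZ H P, y ∈ M₂ → Nil (OO H P k l r) y → ∀ a, H.u a 0 • y = y
  N₂ : NM H ⊤ f₂
  f₂_M₁ : ∀ x ∈ M₁, f₂ x = 0
  f₂_ker : ∀ x, f₂ x = 0 → x ∈ M₂
  f₂_surj : ∀ v, ∃ x, f₂ x = v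

namespace St

variable (D : St H k l r M₁ M₂ f₁ f₂)
include D

theorem top (x : P) : x ∈ (⊤ : AddSubgroup P) := AddSubgroup.mem_top x

theorem add2 (x y : P) : f₂ (x + y) = f₂ x + f₂ y := D.N₂.add _ (D.top x) _ (D.top y)

/-- `[y, t] ∈ C₁` for nilpotent `y` -/
theorem one_zero {y : P} (hy : y ∈ BZ H P) (hn : Nil (OO H P k l r) y) (a : F) : f₁ (H.u a 0 • y + y) 1 = 0 := by
  by_cases ha : a = 0
  · rw [ha, H.u_zero, one_smul, D.h.two]
    have h1 := D.N₁.add 0 (zero_mem _) 0 (zero_mem _)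
    rw [add_zero] at h1
    rw [left_eq_add.1 h1]; rfl
  · obtain ⟨m, hm, hf⟩ := D.q3 y hy a ha (D.q1 y hy hn a)
    set x := y + (H.u a 0 • m + m) with hx
    have hxB : x ∈ BZ H P := add_mem hy (add_mem (BZ_u hm _ _) hm)
    have h1 : H.u a 0 • y + y = H.u a 0 • x + x := by
      rw [hx, smul_add, smul_add, t_t hm]
      calc H.u a 0 • y + y = H.u a 0 • y + y + ((m + m) + (H.u a 0 • m + H.u a 0 • m)) := by
            rw [D.h.two, D.h.two, add_zero, add_zero]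
        _ = _ := by abel
    rw [h1, D.N₁.add _ (D.inv _ _ hf) _ hf]
    show f₁ (H.u a 0 • x) 1 + f₁ x 1 = 0
    rw [D.N₁.t_one hf hxB]
    exact H.add_self _

/-- additivity of `p` -/
theorem p_add {y : P} (hy : y ∈ BZ H P) (hn : Nil (OO H P k l r) y) (a b : F) :
    f₁ (H.u (a + b) 0 • y + y) 0 = f₁ (H.u a 0 • y + y) 0 + f₁ (H.u b 0 • y + y) 0 := by
  have h1 : H.u (a + b) 0 • y + y = H.u a 0 • (H.u b 0 • y + y) + (H.u a 0 • y + y) := by
    rw [t_add hy, smul_add]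
    calc H.u a 0 • H.u b 0 • y + y = H.u a 0 • H.u b 0 • y + y + (H.u a 0 • y + H.u a 0 • y) := by
          rw [D.h.two, add_zero]
      _ = _ := by abel
  have hb := D.q1 y hy hn b
  rw [h1, D.N₁.add _ (D.inv _ _ hb) _ (D.q1 y hy hn a)]
  show f₁ (H.u a 0 • (H.u b 0 • y + y)) 0 + f₁ (H.u a 0 • y + y) 0 = _
  rw [D.N₁.t_zero hb (add_mem (BZ_u hy _ _) hy), D.one_zero hy hn]
  ring

/-- decomposition of `[m, t]` -/
theorem exists_yz {m : P} (hm : m ∈ BZ H P) (a : F) : ∃ y ∈ BZ H P, ∃ z ∈ BZ H P, Nil (OO H P k l r) y ∧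
    Per (OO H P k l r) z ∧ z ∈ M₁ ∧ H.u a 0 • m + m = y + z := by
  obtain ⟨y, hy, z, hz, hn, hp, he⟩ := fitting (O := OO H P k l r) D.h.two (X := BZ H P) (fun x hx => OO_BZ hx)
    (add_mem (BZ_u hm a 0) hm)
  refine ⟨y, hy, z, hz, hn, hp, ?_, he⟩
  obtain ⟨n, h1⟩ := D.q2 m hm a
  obtain ⟨n', h2⟩ := hn
  obtain ⟨q, hq0, hq⟩ := hp
  have hO : ∀ x ∈ M₁, OO H P k l r x ∈ M₁ := fun x hx => OO_mem D.inv hx
  have hN : n + n' ≤ q * (n + n') := Nat.le_mul_of_pos_left _ hq0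
  have h3 : (OO H P k l r)^[q * (n + n')] (H.u a 0 • m + m) ∈ M₁ := by
    obtain ⟨j, hj⟩ := Nat.exists_eq_add_of_le ((Nat.le_add_right n n').trans hN)
    rw [hj, Nat.add_comm, Function.iterate_add_apply]
    exact iter_mem hO h1 j
  rw [he, iter_add, iter_le h2 ((Nat.le_add_left n' n).trans hN), zero_add, iter_per hq] at h3
  exact h3

/-- **the step for one `m`** -/
theorem main {m : P} (hm : m ∈ BZ H P) : (∀ a, Nil (OO H P k l r) (H.u a 0 • m + m)) ∧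
    ∀ a, H.u a 0 • (H.u 1 0 • m + m) = H.u 1 0 • m + m := by
  choose y hy z hz hn hp hzM he using fun a => D.exists_yz hm a
  have hO : ∀ x ∈ M₁, OO H P k l r x ∈ M₁ := fun x hx => OO_mem D.inv hx
  -- `g`
  have hz_add : ∀ a b, z (a + b) = z a + z b := by
    intro a b
    have hyb := D.q1 _ (hy b) (hn b) a
    have hw : H.u a 0 • z b + z b ∈ M₁ := add_mem (D.inv _ _ (hzM b)) (hzM b)
    have hwB : H.u a 0 • z b + z b ∈ BZ H P := add_mem (BZ_u (hz b) _ _) (hz b)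
    have hn1 : Nil (OO H P k l r) (H.u a 0 • y b + y b) :=
      D.N₁.nil_of D.inv D.inj D.klr hyb (add_mem (BZ_u (hy b) _ _) (hy b)) (D.one_zero (hy b) (hn b) a)
    have hn2 : Nil (OO H P k l r) (H.u a 0 • z b + z b) := by
      apply D.N₁.nil_of D.inv D.inj D.klr hw hwB
      rw [D.N₁.add _ (D.inv _ _ (hzM b)) _ (hzM b)]
      show f₁ (H.u a 0 • z b) 1 + f₁ (z b) 1 = 0
      rw [D.N₁.t_one (hzM b) (hz b)]
      exact H.add_self _
    refine fitting_unique D.h.two (hn (a + b)) (hp (a + b))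
      ((((hn a).add (hn b)).add hn1).add hn2) ((hp a).add (hp b)) ?_
    rw [← he, t_add hm]
    calc H.u a 0 • H.u b 0 • m + m = H.u a 0 • (H.u b 0 • m + m) + (H.u a 0 • m + m) := by
          rw [smul_add]
          calc H.u a 0 • H.u b 0 • m + m = H.u a 0 • H.u b 0 • m + m + (H.u a 0 • m + H.u a 0 • m) := by
                rw [D.h.two, add_zero]
            _ = _ := by abel
      _ = H.u a 0 • (y b + z b) + (y a + z a) := by rw [he, he]
      _ = H.u a 0 • y b + H.u a 0 • z b + (y a + z a) + ((y b + y b) + (z b + z b)) := by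
          rw [smul_add, D.h.two, D.h.two, add_zero, add_zero]
      _ = _ := by abel
  have hg_add : ∀ a b, f₁ (z (a + b)) 1 = f₁ (z a) 1 + f₁ (z b) 1 := by
    intro a b
    rw [hz_add, D.N₁.add _ (hzM a) _ (hzM b)]
    rfl
  -- coordinates in `M / M₂`
  have hf2 : ∀ a, f₂ (y a) 0 = a * f₂ m 1 := by
    intro a
    have h1 : f₂ (y a) = f₂ (H.u a 0 • m + m) := by
      rw [he, D.add2, D.f₂_M₁ _ (hzM a), add_zero]
    rw [h1, D.add2]
    show f₂ (H.u a 0 • m) 0 + f₂ m 0 = _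
    rw [D.N₂.t_zero (D.top m) hm]
    linear_combination f₂ m 0 * H.two
  have hf2' : ∀ a, f₂ (y a) 1 = 0 := fun a => D.N₂.one_of_nil (fun _ _ _ => D.top _) D.c0 (D.top _) (hn a)
  -- the comparison
  have hcmp : ∀ c : Fˣ, f₁ (z c) 1 = f₁ (H.u (θ c * (c : F)⁻¹) 0 • y 1 + y 1) 0 := by
    intro c
    set w := y c + H.d c • y 1 with hw
    have hdB : H.d c • y 1 ∈ BZ H P := BZ_d (hy 1) c
    have hwB : w ∈ BZ H P := add_mem (hy c) hdB
    have hwN : Nil (OO H P k l r) w := (hn c).add (Nil_d (hn 1) c)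
    have hwM : w ∈ M₂ := by
      apply D.f₂_ker
      obtain ⟨h2, h3⟩ := D.N₂.two_three (D.top w) hwB
      refine ext4 ?_ ?_ h2 h3
      · rw [hw, D.add2]
        show f₂ (y c) 0 + f₂ (H.d c • y 1) 0 = 0
        rw [hf2, D.N₂.d_zero (D.top _), hf2]
        linear_combination (c * f₂ m 1) * H.two
      · rw [hw, D.add2]
        show f₂ (y c) 1 + f₂ (H.d c • y 1) 1 = 0
        rw [hf2', D.N₂.d_one (D.top _), hf2']
        ring
    have h1 := D.m2 w hwB hwM hwN c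
    -- `[y_c, t_c] = d_c [y_1, t_c']`
    have h2 : H.u (c : F) 0 • y c + y c = H.d c • (H.u (θ c * (c : F)⁻¹) 0 • y 1 + y 1) := by
      have e1 : θ (c : F) * (c : F)⁻¹ * (c : F) ^ 2 * (θ c)⁻¹ = c := by
        have hc := c.ne_zero
        have hθ : θ (c : F) ≠ 0 := (map_ne_zero θ).2 hc
        field_simp
      rw [smul_add, d_t, e1]
      apply D.h.add_eq_zero
      rw [hw, smul_add] at h1
      calc H.u (c : F) 0 • y c + y c + (H.u (c : F) 0 • H.d c • y 1 + H.d c • y 1)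
          = (H.u (c : F) 0 • y c + H.u (c : F) 0 • H.d c • y 1) + (y c + H.d c • y 1) := by abel
        _ = 0 := by rw [h1]; exact D.h.two _
    -- `0 = [m, t_c, t_c]`
    have h3 : (H.u (c : F) 0 • y c + y c) + (H.u (c : F) 0 • z c + z c) = 0 := by
      have h4 : H.u (c : F) 0 • (H.u (c : F) 0 • m + m) = H.u (c : F) 0 • m + m := by
        rw [smul_add, t_t hm, add_comm]
      rw [he, smul_add] at h4
      calc (H.u (c : F) 0 • y c + y c) + (H.u (c : F) 0 • z c + z c)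
          = (H.u (c : F) 0 • y c + H.u (c : F) 0 • z c) + (y c + z c) := by abel
        _ = 0 := by rw [h4]; exact D.h.two _
    have h5 := D.h.add_eq_zero h3
    have h6 : f₁ (H.u (c : F) 0 • y c + y c) 0 = f₁ (H.u (c : F) 0 • z c + z c) 0 := by rw [h5]
    rw [h2, D.N₁.d_zero (D.q1 _ (hy 1) (hn 1) _), D.N₁.add _ (D.inv _ _ (hzM c)) _ (hzM c)] at h6
    have h7 : f₁ (H.u (c : F) 0 • z c) 0 + f₁ (z c) 0 = c * f₁ (z c) 1 := by
      rw [D.N₁.t_zero (hzM c) (hz c)]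
      linear_combination f₁ (z c) 0 * H.two
    have h8 : (c : F) * f₁ (H.u (θ c * (c : F)⁻¹) 0 • y 1 + y 1) 0 = c * f₁ (z c) 1 := h6.trans h7
    exact (mul_left_cancel₀ c.ne_zero h8).symm
  have hA := arith H D.three (g := fun a => f₁ (z a) 1) (p := fun a => f₁ (H.u a 0 • y 1 + y 1) 0) hg_add
    (fun a b => D.p_add (hy 1) (hn 1) a b) hcmp
  have hz0 : ∀ a, z a = 0 := by
    intro a
    apply D.inj _ (hzM a)
    obtain ⟨h2, h3⟩ := D.N₁.two_three (hzM a) (hz a)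
    exact ext4 (D.N₁.zero_of_per D.inv D.klr (hzM a) (hp a)) (hA a).1 h2 h3
  constructor
  · intro a
    rw [he, hz0, add_zero]
    exact hn a
  · intro a
    rw [he, hz0, add_zero]
    have hM := D.q1 _ (hy 1) (hn 1) a
    have hB : H.u a 0 • y 1 + y 1 ∈ BZ H P := add_mem (BZ_u (hy 1) _ _) (hy 1)
    apply D.h.add_eq_zero
    apply D.inj _ hM
    obtain ⟨h2, h3⟩ := D.N₁.two_three hM hB
    exact ext4 (hA a).2 (D.one_zero (hy 1) (hn 1) a) h2 h3

/-- **the step** -/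
theorem fix_nil {y : P} (hy : y ∈ BZ H P) (hn : Nil (OO H P k l r) y) (a : F) : H.u a 0 • y = y := by
  obtain ⟨m', hm'⟩ := D.f₂_surj ![0, 0, f₂ y 0, f₂ y 0]
  set m := H.u 0 1 • m' + m' with hmd
  have hm : m ∈ BZ H P := D.h.comm_mem 1 m'
  obtain ⟨h1, h2⟩ := D.main hm
  set x := H.u 1 0 • m + m with hx
  have hxB : x ∈ BZ H P := add_mem (BZ_u hm _ _) hm
  have hm1 : f₂ m 1 = f₂ y 0 := by
    rw [hmd, D.add2, D.N₂.smul _ _ (D.top _), hm']
    show mv (H.U 0 1) _ 1 + _ = _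
    rw [mv_U]
    show (0 : F) + θ 0 * f₂ y 0 + (1 + 0 * θ 0) * f₂ y 0 + 0 = f₂ y 0
    rw [map_zero]; ring
  have hx0 : f₂ x 0 = f₂ y 0 := by
    rw [hx, D.add2]
    show f₂ (H.u 1 0 • m) 0 + f₂ m 0 = _
    rw [D.N₂.t_zero (D.top _) hm, hm1]
    linear_combination f₂ m 0 * H.two
  have hxn : Nil (OO H P k l r) x := h1 1
  have hw : y + x ∈ M₂ := by
    apply D.f₂_ker
    obtain ⟨h2, h3⟩ := D.N₂.two_three (D.top (y + x)) (add_mem hy hxB)
    refine ext4 ?_ ?_ h2 h3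
    · rw [D.add2]
      show f₂ y 0 + f₂ x 0 = 0
      rw [hx0]
      exact H.add_self _
    · exact D.N₂.one_of_nil (fun _ _ _ => D.top _) D.c0 (D.top _) (hn.add hxn)
  have h3 := D.m2 _ (add_mem hy hxB) hw (hn.add hxn) a
  rw [smul_add, h2 a] at h3
  exact add_right_cancel h3

end St

end step

end Cfsg.Agent.Omega.NO1.SZ
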